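import Mathlib

/-!
# Tensor products of finite modules over a local ring (helper9)
-/

set_option autoImplicit false
universe u
open TensorProduct

namespace Groth.Agent.H9.Inv

variable {A : Type u} [CommRing A] [IsLocalRing A]
  {M N : Type u} [AddCommGroup M] [Module A M] [AddCommGroup N] [Module A N]

local notation "k" => IsLocalRing.ResidueField A

/-- the tensor product of two nonzero finite modules over a local ring is nonzero -/
theorem nontrivial_tensor_of_finite [Module.Finite A M] [Module.Finite A N] [Nontrivial M]
    [Nontrivial N] : Nontrivial (M ⊗[A] N) := by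
  by_contra hcon
  rw [not_nontrivial_iff_subsingleton] at hcon
  have hM : Nontrivial (k ⊗[A] M) := by
    rw [← not_subsingleton_iff_nontrivial, IsLocalRing.subsingleton_tensorProduct]
    exact not_subsingleton M
  have hN : Nontrivial (k ⊗[A] N) := by
    rw [← not_subsingleton_iff_nontrivial, IsLocalRing.subsingleton_tensorProduct]
    exact not_subsingleton N
  obtain ⟨w, hw⟩ := exists_ne (0 : k ⊗[A] N)
  have hinj : Function.Injective (LinearMap.toSpanSingleton k (k ⊗[A] N) w) := by
    intro x y hxy
    have h : (x - y) • w = 0 := (sub_smul x y w).trans (sub_eq_zero.2 hxy)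
    rcases smul_eq_zero.1 h with h | h
    · exact sub_eq_zero.1 h
    · exact absurd h hw
  have h1 : Nontrivial ((k ⊗[A] M) ⊗[k] (k ⊗[A] N)) :=
    TensorProduct.nontrivial_of_linearMap_injective_of_flat_left k (k ⊗[A] M) (k ⊗[A] N) _ hinj
  have h2 : Subsingleton (k ⊗[A] (M ⊗[A] N)) := inferInstance
  exact not_subsingleton _
    ((TensorProduct.AlgebraTensorModule.distribBaseChange A k M N).symm.toEquiv.subsingleton)

/-- over a local ring, if `M ⊗ N ≃ A` then `M ≃ A` and `N ≃ A` -/
theorem nonempty_equiv_of_tensor_equiv (e : M ⊗[A] N ≃ₗ[A] A) :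
    Nonempty (M ≃ₗ[A] A) ∧ Nonempty (N ≃ₗ[A] A) := by
  haveI hM : Module.Invertible A M := Module.Invertible.left e
  haveI hN : Module.Invertible A N := Module.Invertible.right e
  haveI : Module.Free A M := Module.free_of_flat_of_isLocalRing
  haveI : Module.Free A N := Module.free_of_flat_of_isLocalRing
  exact ⟨Module.Invertible.free_iff_linearEquiv.1 inferInstance,
    Module.Invertible.free_iff_linearEquiv.1 inferInstance⟩

end Groth.Agent.H9.Inv
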