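import Mathlib
import Groth.Agent.H35.KFBounded

/-!
# Top-degree Künneth for the tensor product of two bounded above complexes (helper9)

If `P^i = 0` for `i > a` and `P'^j = 0` for `j > b`, then `(P ⊗ P')^n = 0` for `n > a + b`,
`(P ⊗ P')^{a+b} = P^a ⊗ P'^b` and `H^{a+b}(P ⊗ P') = coker(d_P^{a-1}) ⊗ coker(d_{P'}^{b-1})`.
-/

set_option autoImplicit false
universe u
open CategoryTheory Limits MonoidalCategory HomologicalComplex

namespace Groth.Agent.H9.Inv

variable {R : Type u} [CommRing R]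

/-- the total tensor complex -/
noncomputable abbrev Tot (P P' : CochainComplex (ModuleCat.{u} R) ℤ) :
    CochainComplex (ModuleCat.{u} R) ℤ :=
  mapBifunctor P P' (curriedTensor (ModuleCat.{u} R)) (ComplexShape.up ℤ)

/-- the inclusion of a summand -/
noncomputable abbrev ιT (P P' : CochainComplex (ModuleCat.{u} R) ℤ) (p q n : ℤ) (h : p + q = n) :
    P.X p ⊗ P'.X q ⟶ (Tot P P').X n :=
  ιMapBifunctor P P' (curriedTensor (ModuleCat.{u} R)) (ComplexShape.up ℤ) p q n h

lemma isZero_summand (P P' : CochainComplex (ModuleCat.{u} R) ℤ) (p q : ℤ)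
    (h : IsZero (P.X p) ∨ IsZero (P'.X q)) : IsZero (P.X p ⊗ P'.X q) := by
  rcases h with h | h
  · exact ((curriedTensor (ModuleCat.{u} R)).flip.obj (P'.X q)).map_isZero h
  · exact ((curriedTensor (ModuleCat.{u} R)).obj (P.X p)).map_isZero h

variable (P P' : CochainComplex (ModuleCat.{u} R) ℤ) (a b : ℤ)
  (hP : ∀ i, a < i → IsZero (P.X i)) (hP' : ∀ i, b < i → IsZero (P'.X i))

include hP hP' in
lemma isZero_summand_of_lt (p q : ℤ) (h : a + b < p + q) : IsZero (P.X p ⊗ P'.X q) := by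
  apply isZero_summand
  by_cases hp : a < p
  · exact Or.inl (hP p hp)
  · exact Or.inr (hP' q (by omega))

include hP hP' in
lemma isZero_Tot_X (n : ℤ) (hn : a + b < n) : IsZero ((Tot P P').X n) := by
  rw [IsZero.iff_id_eq_zero]
  apply mapBifunctor.hom_ext
  intro p q h
  have h' : p + q = n := h
  exact (isZero_summand_of_lt P P' a b hP hP' p q (by omega)).eq_of_src _ _

include hP hP' in
lemma isZero_summand_top (p q : ℤ) (h : p + q = a + b) (hne : ¬ (p = a ∧ q = b)) :
    IsZero (P.X p ⊗ P'.X q) := by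
  apply isZero_summand
  by_cases hp : a < p
  · exact Or.inl (hP p hp)
  · refine Or.inr (hP' q ?_)
    by_contra hq
    exact hne ⟨by omega, by omega⟩

include hP hP' in
lemma isIso_ιT_top : IsIso (ιT P P' a b (a + b) rfl) := by
  refine Groth.Agent.H35.KF.isIso_cofan_inj_of_isZero (Groth.Agent.H35.KF.totCocone P (a + b) P')
    (Groth.Agent.H35.KF.isColimitTotCocone P (a + b) P') ⟨(a, b), rfl⟩ ?_
  rintro ⟨⟨p', q'⟩, h'⟩ hne
  have h1 : p' + q' = a + b := h'
  refine isZero_summand_top P P' a b hP hP' p' q' h1 ?_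
  rintro ⟨rfl, rfl⟩
  exact hne rfl

/-- cokernel of the last differential -/
noncomputable abbrev topCoker (P : CochainComplex (ModuleCat.{u} R) ℤ) (a : ℤ) : ModuleCat.{u} R :=
  ModuleCat.of R (P.X a ⧸ LinearMap.range (P.d (a - 1) a).hom)

/-- the projection to the cokernel of the last differential -/
noncomputable abbrev topπ (P : CochainComplex (ModuleCat.{u} R) ℤ) (a : ℤ) : P.X a ⟶ topCoker P a :=
  ModuleCat.ofHom (LinearMap.range (P.d (a - 1) a).hom).mkQ

lemma d_comp_topπ (P : CochainComplex (ModuleCat.{u} R) ℤ) (a : ℤ) :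
    P.d (a - 1) a ≫ topπ P a = 0 := by
  ext x
  change (LinearMap.range (P.d (a - 1) a).hom).mkQ ((P.d (a - 1) a).hom x) = 0
  rw [Submodule.mkQ_apply, Submodule.Quotient.mk_eq_zero]
  exact ⟨x, rfl⟩

/-- the comparison map `(P ⊗ P')^{a+b} ⟶ coker ⊗ coker` -/
noncomputable def topMap : (Tot P P').X (a + b) ⟶ topCoker P a ⊗ topCoker P' b :=
  haveI := isIso_ιT_top P P' a b hP hP'
  inv (ιT P P' a b (a + b) rfl) ≫ (topπ P a ⊗ₘ topπ P' b)

lemma ιT_topMap : ιT P P' a b (a + b) rfl ≫ topMap P P' a b hP hP' = topπ P a ⊗ₘ topπ P' b := by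
  haveI := isIso_ιT_top P P' a b hP hP'
  unfold topMap
  rw [IsIso.hom_inv_id_assoc]

include hP' in
lemma ιT_d_left (n' : ℤ) (hn' : n' + 1 = a + b) :
    ιT P P' (a - 1) b n' (by omega) ≫ (Tot P P').d n' (a + b) =
      (P.d (a - 1) a ▷ P'.X b) ≫ ιT P P' a b (a + b) rfl := by
  have h2 : mapBifunctor.d₂ P P' (curriedTensor (ModuleCat.{u} R)) (ComplexShape.up ℤ)
      (a - 1) b (a + b) = 0 := by
    rw [mapBifunctor.d₂_eq' P P' (curriedTensor (ModuleCat.{u} R)) (ComplexShape.up ℤ) (a - 1)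
      (show (ComplexShape.up ℤ).Rel b (b + 1) from rfl) (a + b)]
    have hz : P'.d b (b + 1) = 0 := (hP' (b + 1) (by omega)).eq_of_tgt _ _
    rw [hz, Functor.map_zero, zero_comp, smul_zero]
  rw [mapBifunctor.d_eq, Preadditive.comp_add, mapBifunctor.ι_D₁, mapBifunctor.ι_D₂, h2, add_zero,
    mapBifunctor.d₁_eq P P' (curriedTensor (ModuleCat.{u} R)) (ComplexShape.up ℤ)
      (show (ComplexShape.up ℤ).Rel (a - 1) a by simp) b (a + b) rfl]
  exact one_smul _ _

include hP in
lemma ιT_d_right (n' : ℤ) (hn' : n' + 1 = a + b) :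
    ιT P P' a (b - 1) n' (by omega) ≫ (Tot P P').d n' (a + b) =
      ComplexShape.ε₂ (ComplexShape.up ℤ) (ComplexShape.up ℤ) (ComplexShape.up ℤ) (a, b - 1) •
        ((P.X a ◁ P'.d (b - 1) b) ≫ ιT P P' a b (a + b) rfl) := by
  have h1 : mapBifunctor.d₁ P P' (curriedTensor (ModuleCat.{u} R)) (ComplexShape.up ℤ)
      a (b - 1) (a + b) = 0 := by
    rw [mapBifunctor.d₁_eq' P P' (curriedTensor (ModuleCat.{u} R)) (ComplexShape.up ℤ)
      (show (ComplexShape.up ℤ).Rel a (a + 1) from rfl) (b - 1) (a + b)]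
    have hz : P.d a (a + 1) = 0 := (hP (a + 1) (by omega)).eq_of_tgt _ _
    rw [hz, Functor.map_zero, NatTrans.app_zero, zero_comp, smul_zero]
  rw [mapBifunctor.d_eq, Preadditive.comp_add, mapBifunctor.ι_D₁, mapBifunctor.ι_D₂, h1, zero_add,
    mapBifunctor.d₂_eq P P' (curriedTensor (ModuleCat.{u} R)) (ComplexShape.up ℤ) a
      (show (ComplexShape.up ℤ).Rel (b - 1) b by simp) (a + b) rfl]
  rfl

include hP hP' in
lemma isZero_summand_pred (p q : ℤ) (h : p + q + 1 = a + b) (h1 : ¬ (p = a - 1 ∧ q = b))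
    (h2 : ¬ (p = a ∧ q = b - 1)) : IsZero (P.X p ⊗ P'.X q) := by
  apply isZero_summand
  by_cases hp : a < p
  · exact Or.inl (hP p hp)
  · refine Or.inr (hP' q ?_)
    by_contra hq
    by_cases hpa : p = a
    · exact h2 ⟨hpa, by omega⟩
    · exact h1 ⟨by omega, by omega⟩

lemma d_topMap (n' : ℤ) (hn' : n' + 1 = a + b) :
    (Tot P P').d n' (a + b) ≫ topMap P P' a b hP hP' = 0 := by
  apply mapBifunctor.hom_ext
  intro p q h
  have h' : p + q = n' := h
  rw [comp_zero]
  by_cases h1 : p = a - 1 ∧ q = b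
  · obtain ⟨hp, hq⟩ := h1
    subst hp hq
    rw [← Category.assoc]
    rw [ιT_d_left P P' a q hP' n' hn', Category.assoc, ιT_topMap, ← MonoidalCategory.tensorHom_id,
      MonoidalCategory.tensorHom_comp_tensorHom, d_comp_topπ, MonoidalPreadditive.zero_tensor]
  · by_cases h2 : p = a ∧ q = b - 1
    · obtain ⟨hp, hq⟩ := h2
      subst hp hq
      rw [← Category.assoc]
      rw [ιT_d_right P P' p b hP n' hn', Linear.units_smul_comp, Category.assoc, ιT_topMap,
        ← MonoidalCategory.id_tensorHom, MonoidalCategory.tensorHom_comp_tensorHom, d_comp_topπ,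
        MonoidalPreadditive.tensor_zero, smul_zero]
    · exact (isZero_summand_pred P P' a b hP hP' p q (by omega) h1 h2).eq_of_src _ _

lemma epi_topMap : Epi (topMap P P' a b hP hP') := by
  haveI := isIso_ιT_top P P' a b hP hP'
  unfold topMap
  haveI : Epi (topπ P a ⊗ₘ topπ P' b) := by
    rw [ModuleCat.epi_iff_surjective]
    exact TensorProduct.map_surjective (Submodule.mkQ_surjective _) (Submodule.mkQ_surjective _)
  infer_instance

lemma exact_top (n' : ℤ) (hn' : n' + 1 = a + b) :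
    (ShortComplex.mk ((Tot P P').d n' (a + b)) (topMap P P' a b hP hP')
      (d_topMap P P' a b hP hP' n' hn')).Exact := by
  haveI := isIso_ιT_top P P' a b hP hP'
  rw [ShortComplex.moduleCat_exact_iff]
  intro x hx
  obtain ⟨z, rfl⟩ : ∃ z, (ιT P P' a b (a + b) rfl).hom z = x :=
    ⟨(inv (ιT P P' a b (a + b) rfl)).hom x, by
      rw [← ModuleCat.comp_apply, IsIso.inv_hom_id, ModuleCat.id_apply]⟩
  have hz0 : (topπ P a ⊗ₘ topπ P' b).hom z = 0 := by
    rw [← ιT_topMap P P' a b hP hP', ModuleCat.comp_apply]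
    exact hx
  have hker := TensorProduct.map_ker (LinearMap.exact_map_mkQ_range (P.d (a - 1) a).hom)
    (Submodule.mkQ_surjective _) (LinearMap.exact_map_mkQ_range (P'.d (b - 1) b).hom)
    (Submodule.mkQ_surjective _)
  have hz' : z ∈ LinearMap.range (LinearMap.lTensor (P.X a) (P'.d (b - 1) b).hom) ⊔
      LinearMap.range (LinearMap.rTensor (P'.X b) (P.d (a - 1) a).hom) := by
    rw [← hker]
    exact hz0
  obtain ⟨_, ⟨y2, rfl⟩, _, ⟨y1, rfl⟩, rfl⟩ := Submodule.mem_sup.1 hz'
  have E1 := ιT_d_left P P' a b hP' n' hn'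
  have E2 := ιT_d_right P P' a b hP n' hn'
  have e1 : ((Tot P P').d n' (a + b)).hom ((ιT P P' (a - 1) b n' (by omega)).hom y1) =
      (ιT P P' a b (a + b) rfl).hom (LinearMap.rTensor (P'.X b) (P.d (a - 1) a).hom y1) := by
    rw [← ModuleCat.comp_apply, E1]
    rfl
  rcases Int.units_eq_one_or (ComplexShape.ε₂ (ComplexShape.up ℤ) (ComplexShape.up ℤ)
    (ComplexShape.up ℤ) (a, b - 1)) with hε | hε
  · rw [hε, one_smul] at E2
    have e2 : ((Tot P P').d n' (a + b)).hom ((ιT P P' a (b - 1) n' (by omega)).hom y2) =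
        (ιT P P' a b (a + b) rfl).hom (LinearMap.lTensor (P.X a) (P'.d (b - 1) b).hom y2) := by
      rw [← ModuleCat.comp_apply, E2]
      rfl
    refine ⟨(ιT P P' a (b - 1) n' (by omega)).hom y2 + (ιT P P' (a - 1) b n' (by omega)).hom y1, ?_⟩
    change ((Tot P P').d n' (a + b)).hom _ = _
    rw [map_add, e1, e2, map_add]
  · rw [hε, Units.smul_def, Units.val_neg, Units.val_one, neg_smul, one_smul] at E2
    have e2 : ((Tot P P').d n' (a + b)).hom ((ιT P P' a (b - 1) n' (by omega)).hom y2) =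
        - (ιT P P' a b (a + b) rfl).hom (LinearMap.lTensor (P.X a) (P'.d (b - 1) b).hom y2) := by
      rw [← ModuleCat.comp_apply, E2]
      rfl
    refine ⟨- (ιT P P' a (b - 1) n' (by omega)).hom y2 +
      (ιT P P' (a - 1) b n' (by omega)).hom y1, ?_⟩
    change ((Tot P P').d n' (a + b)).hom _ = _
    rw [map_add, map_neg, e1, e2, neg_neg, map_add]

/-- **top-degree Künneth** -/
noncomputable def topHomologyIso :
    (Tot P P').homology (a + b) ≅ topCoker P a ⊗ topCoker P' b := by
  haveI := epi_topMap P P' a b hP hP'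
  have hex := exact_top P P' a b hP hP' (a + b - 1) (by omega)
  have hg : ((Tot P P').sc' (a + b - 1) (a + b) (a + b + 1)).g = 0 :=
    (isZero_Tot_X P P' a b hP hP' (a + b + 1) (by omega)).eq_of_tgt _ _
  exact (Tot P P').homologyIsoSc' (a + b - 1) (a + b) (a + b + 1) (by simp) (by simp) ≪≫
    (ShortComplex.HomologyData.ofIsColimitCokernelCofork _ hg _ hex.gIsCokernel).left.homologyIso

include hP in
/-- the top cohomology of a bounded above complex is the cokernel of the last differential -/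
noncomputable def homologyIsoTopCoker : P.homology a ≅ topCoker P a := by
  have hex : (ShortComplex.mk (P.d (a - 1) a) (topπ P a) (d_comp_topπ P a)).Exact := by
    rw [ShortComplex.moduleCat_exact_iff]
    intro x hx
    have hx' : (LinearMap.range (P.d (a - 1) a).hom).mkQ x = 0 := hx
    rw [Submodule.mkQ_apply, Submodule.Quotient.mk_eq_zero] at hx'
    exact hx'
  haveI : Epi (topπ P a) := by
    rw [ModuleCat.epi_iff_surjective]
    exact Submodule.mkQ_surjective _
  have hg : (P.sc' (a - 1) a (a + 1)).g = 0 := (hP (a + 1) (by omega)).eq_of_tgt _ _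
  exact P.homologyIsoSc' (a - 1) a (a + 1) (by simp) (by simp) ≪≫
    (ShortComplex.HomologyData.ofIsColimitCokernelCofork _ hg _ hex.gIsCokernel).left.homologyIso

include hP hP' in
/-- **top-degree Künneth**, in terms of cohomology -/
theorem nonempty_topHomology_equiv :
    Nonempty ((Tot P P').homology (a + b) ≃ₗ[R]
      TensorProduct R (P.homology a) (P'.homology b)) := by
  let e1 := (topHomologyIso P P' a b hP hP').toLinearEquiv
  let e2 := (homologyIsoTopCoker P a hP).toLinearEquiv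
  let e3 := (homologyIsoTopCoker P' b hP').toLinearEquiv
  exact ⟨e1 ≪≫ₗ (TensorProduct.congr e2 e3).symm⟩

end Groth.Agent.H9.Inv
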