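import Mathlib
import Groth.Agent.H9.Inv.TopKunneth

/-!
# A complex with top cohomology `R` in degree `0` has the unit complex as a retract (helper9)
-/

set_option autoImplicit false
universe u
open CategoryTheory Limits MonoidalCategory HomologicalComplex

namespace Groth.Agent.H9.Inv

variable {R : Type u} [CommRing R]

section Zero

variable (Q : CochainComplex (ModuleCat.{u} R) ℤ) (hQ : ∀ i, 0 < i → IsZero (Q.X i))
  (e : topCoker Q 0 ≅ 𝟙_ (ModuleCat.{u} R))

/-- degree-zero projection -/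
noncomputable def rπ₀ : Q.X 0 ⟶ 𝟙_ (ModuleCat.{u} R) := topπ Q 0 ≫ e.hom

lemma d_rπ₀ : Q.d (0 - 1) 0 ≫ rπ₀ Q e = 0 := by
  unfold rπ₀
  rw [← Category.assoc, d_comp_topπ, zero_comp]

lemma exists_rs₀ : ∃ s₀ : 𝟙_ (ModuleCat.{u} R) ⟶ Q.X 0, s₀ ≫ rπ₀ Q e = 𝟙 _ := by
  obtain ⟨x, hx⟩ := Submodule.mkQ_surjective (LinearMap.range (Q.d (0 - 1) 0).hom)
    (e.inv.hom (1 : R))
  refine ⟨ModuleCat.ofHom (LinearMap.toSpanSingleton R (Q.X 0) x), ?_⟩
  ext
  change e.hom.hom ((LinearMap.range (Q.d (0 - 1) 0).hom).mkQ ((1 : R) • x)) = (1 : R)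
  rw [one_smul, hx]
  change (e.inv ≫ e.hom).hom (1 : R) = 1
  rw [e.inv_hom_id]
  rfl

/-- the chain-level projection -/
noncomputable def rπ : Q ⟶ 𝟙_ (CochainComplex (ModuleCat.{u} R) ℤ) :=
  HomologicalComplex.mkHomToSingle (rπ₀ Q e) (fun i hi => by
    have hi' : i + 1 = 0 := hi
    obtain rfl : i = 0 - 1 := by omega
    exact d_rπ₀ Q e)

include hQ in
lemma exists_retract : ∃ (s : 𝟙_ (CochainComplex (ModuleCat.{u} R) ℤ) ⟶ Q), s ≫ rπ Q e = 𝟙 _ := by
  obtain ⟨s₀, hs₀⟩ := exists_rs₀ Q e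
  refine ⟨HomologicalComplex.mkHomFromSingle s₀ (fun k hk => ?_), ?_⟩
  · have hk' : 0 + 1 = k := hk
    exact (hQ k (by omega)).eq_of_tgt _ _
  · apply HomologicalComplex.from_single_hom_ext
    rw [HomologicalComplex.comp_f, HomologicalComplex.id_f]
    unfold rπ
    rw [HomologicalComplex.mkHomFromSingle_f, HomologicalComplex.mkHomToSingle_f, Category.assoc,
      reassoc_of% hs₀, Iso.hom_inv_id]
    rfl

include hQ e in
/-- **retract lemma** -/
theorem isZero_homology_of_unit_retract (E : CochainComplex (ModuleCat.{u} R) ℤ) (j : ℤ)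
    (h : IsZero ((Q ⊗ E).homology j)) : IsZero (E.homology j) := by
  obtain ⟨s, hs⟩ := exists_retract Q hQ e
  let F := HomologicalComplex.homologyFunctor (ModuleCat.{u} R) (ComplexShape.up ℤ) j
  have h1 : ((λ_ E).inv ≫ s ▷ E) ≫ (rπ Q e ▷ E ≫ (λ_ E).hom) = 𝟙 E := by
    rw [Category.assoc, ← Category.assoc (s ▷ E), ← comp_whiskerRight, hs, id_whiskerRight,
      Category.id_comp, Iso.inv_hom_id]
  rw [IsZero.iff_id_eq_zero]
  change 𝟙 (F.obj E) = 0
  rw [← F.map_id, ← h1, F.map_comp]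
  have : F.map ((λ_ E).inv ≫ s ▷ E) = 0 := h.eq_of_tgt _ _
  rw [this, zero_comp]

end Zero

section Shifted

variable (P : CochainComplex (ModuleCat.{u} R) ℤ) (a : ℤ) (hP : ∀ i, a < i → IsZero (P.X i))
  (e : P.homology a ≅ 𝟙_ (ModuleCat.{u} R))

include hP e in
/-- **retract lemma**, any degree -/
theorem isZero_homology_of_retract (E : CochainComplex (ModuleCat.{u} R) ℤ) (j : ℤ)
    (h : IsZero ((P ⊗ E).homology (a + j))) : IsZero (E.homology j) := by
  let Q : CochainComplex (ModuleCat.{u} R) ℤ := P⟦a⟧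
  have hQ : ∀ i, 0 < i → IsZero (Q.X i) := fun i hi => hP (i + a) (by omega)
  let e' : topCoker Q 0 ≅ 𝟙_ (ModuleCat.{u} R) :=
    (homologyIsoTopCoker Q 0 hQ).symm ≪≫
      (CochainComplex.ShiftSequence.shiftIso (ModuleCat.{u} R) a 0 a (by omega)).app P ≪≫ e
  refine isZero_homology_of_unit_retract Q hQ e' E j ?_
  refine h.of_iso ?_
  exact (HomologicalComplex.homologyFunctor _ _ j).mapIso
      (CochainComplex.mapBifunctorShift₁Iso P E (curriedTensor (ModuleCat.{u} R)) a) ≪≫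
    (CochainComplex.ShiftSequence.shiftIso (ModuleCat.{u} R) a j (a + j) rfl).app _

end Shifted

end Groth.Agent.H9.Inv
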