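import Mathlib
import Groth.Agent.H9.Inv.TopKunneth
import Groth.Agent.H9.Inv.Retract
import Groth.Agent.H9.Inv.Alg
import Groth.Agent.H28.PCohRing2
import Groth.Agent.H28.PCohTower2
import Groth.Agent.H35.LTensorCxLib
import Groth.Agent.H35.KFSymmetry
import Groth.Agent.H9.DCF.Heart

/-!
# Tensor-invertible complexes over a Noetherian local ring (helper9)
-/

set_option autoImplicit false
universe u
open CategoryTheory Limits MonoidalCategory HomologicalComplex DerivedCategory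

attribute [local instance] HasDerivedCategory.standard

namespace Groth.Agent.H9.Inv

open Groth.Agent.H35.KF Groth.Agent.H35.LT Groth.Agent.H28.PCohDer

variable {A : Type u} [CommRing A]

section Resolution

variable [IsNoetherianRing A]

lemma exists_resolution (K : DRing.Cx A) (hfin : ∀ i, Module.Finite A (K.homology i)) (m : ℤ)
    (hac : ∀ i, m ≤ i → IsZero (K.homology i)) :
    ∃ (P : DRing.Cx A) (u : P ⟶ K), QuasiIso u ∧ (∀ i, m ≤ i → IsZero (P.X i)) ∧
      ∀ i, Module.Finite A (P.X i) ∧ Module.Free A (P.X i) := by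
  have hF : PCoh.IsPC (Groth.Agent.H28.PCohRing.finFree A) (Q.obj K) := fun n =>
    (Groth.Agent.H28.PCohRing.isNPC_iff_of_noetherian A n (Q.obj K)).2
      ⟨⟨m - 1, fun i hi => (hac i (by omega)).of_iso (homologyQIso K i)⟩,
        fun i _ => Module.Finite.equiv (homologyQIso K i).toLinearEquiv.symm⟩
  obtain ⟨P, u, hP, hu, hz⟩ := Groth.Agent.H28.PCohTower.exists_strictPCAll_resolution
    (Groth.Agent.H28.PCohRing.hql_finFree A) (Groth.Agent.H28.PCohRing.finFree_prod A)
    (Groth.Agent.H28.PCohRing.hqs_finFree A) m K hF hac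
  exact ⟨P, u, hu, hz, fun i => hP.2 i⟩

end Resolution

section TotIso

/-- the total tensor product of resolutions computes the derived tensor product -/
noncomputable def totIso (E : DRing.Cx A) [DRing.HasLTensorCx A E] (L : Dual.D A) (K : DRing.Cx A)
    (φ : Q.obj K ≅ L) (P P' : DRing.Cx A) (u : P ⟶ K) (hu : QuasiIso u) (u' : P' ⟶ E)
    (hu' : QuasiIso u') (hP : IsKFlat P) :
    Q.obj (P ⊗ P') ≅ (DRing.LTensorCx A E).obj L :=
  haveI : QuasiIso (P ◁ u') :=
    quasiIso_whiskerLeft_of_left_flat P (isZero_homology_tensor_left_of_isKFlat hP) u'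
  haveI := isIso_Q_map_of_quasiIso (P ◁ u') inferInstance
  haveI := isIso_Q_map_of_quasiIso u hu
  asIso (Q.map (P ◁ u')) ≪≫ (LTensorCxIso E P hP).symm ≪≫
    (DRing.LTensorCx A E).mapIso (asIso (Q.map u) ≪≫ φ)

end TotIso

section Chain

variable [IsLocalRing A]

lemma nontrivial_of_not_isZero (M : ModuleCat.{u} A) (h : ¬ IsZero M) : Nontrivial M := by
  rw [← not_subsingleton_iff_nontrivial]
  intro hs
  exact h (ModuleCat.isZero_of_subsingleton M)

/-- the key chain-level statement -/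
theorem chain_main (P P' : DRing.Cx A) (a b : ℤ)
    (hP : ∀ i, a < i → IsZero (P.X i)) (hP' : ∀ i, b < i → IsZero (P'.X i))
    (hPfin : Module.Finite A (P.homology a)) (hP'fin : Module.Finite A (P'.homology b))
    (hPa : ¬ IsZero (P.homology a)) (hP'b : ¬ IsZero (P'.homology b))
    (hT : ∀ n, n ≠ 0 → IsZero ((P ⊗ P').homology n))
    (e0 : (P ⊗ P').homology 0 ≃ₗ[A] A) :
    a + b = 0 ∧ Nonempty (P.homology a ≃ₗ[A] A) ∧ Nonempty (P'.homology b ≃ₗ[A] A) ∧
      (∀ j, j ≠ a → IsZero (P.homology j)) ∧ (∀ j, j ≠ b → IsZero (P'.homology j)) := by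
  obtain ⟨eK⟩ := nonempty_topHomology_equiv P P' a b hP hP'
  haveI := nontrivial_of_not_isZero _ hPa
  haveI := nontrivial_of_not_isZero _ hP'b
  haveI : Nontrivial (TensorProduct A (P.homology a) (P'.homology b)) :=
    nontrivial_tensor_of_finite
  have hab : a + b = 0 := by
    by_contra hne
    haveI := ModuleCat.subsingleton_of_isZero (hT (a + b) hne)
    exact not_subsingleton _ eK.symm.toEquiv.subsingleton
  have e0' : (Tot P P').homology (a + b) ≃ₗ[A] A := by
    rw [hab]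
    exact e0
  obtain ⟨⟨eM⟩, ⟨eN⟩⟩ := nonempty_equiv_of_tensor_equiv (eK.symm ≪≫ₗ e0')
  refine ⟨hab, ⟨eM⟩, ⟨eN⟩, fun j hj => ?_, fun j hj => ?_⟩
  · refine isZero_homology_of_retract P' b hP' eN.toModuleIso P j ?_
    refine (hT (b + j) (by omega)).of_iso ?_
    exact (HomologicalComplex.homologyFunctor _ _ (b + j)).mapIso (tensorSwapIso P' P)
  · exact isZero_homology_of_retract P a hP eM.toModuleIso P' j (hT (a + j) (by omega))

end Chain

section Main

variable [IsLocalRing A] [IsNoetherianRing A]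

lemma exists_top (K : DRing.Cx A) (hb : ∃ b : ℤ, ∀ i : ℤ, b < i → IsZero (K.homology i))
    (hne : ∃ i : ℤ, ¬ IsZero (K.homology i)) :
    ∃ a : ℤ, ¬ IsZero (K.homology a) ∧ ∀ i : ℤ, a < i → IsZero (K.homology i) := by
  obtain ⟨b, hb⟩ := hb
  obtain ⟨a, ha, hmax⟩ := Int.exists_greatest_of_bdd (P := fun i => ¬ IsZero (K.homology i))
    ⟨b, fun z hz => by
      by_contra hlt
      exact hz (hb z (by omega))⟩ hne
  refine ⟨a, ha, fun i hi => ?_⟩
  by_contra hcon
  have := hmax i hcon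
  omega

/-- homology of `A[0]` -/
lemma isZero_HD_inD (n : ℤ) (hn : n ≠ 0) :
    IsZero ((DerivedCategory.homologyFunctor (ModuleCat.{u} A) n).obj (Dual.inD A A)) := by
  rcases lt_or_gt_of_ne hn with h | h
  · exact DerivedCategory.isZero_of_isGE (Dual.inD A A) 0 n h
  · exact DerivedCategory.isZero_of_isLE (Dual.inD A A) 0 n h

/-- data extracted from a pair of resolutions -/
lemma tot_homology (E : DRing.Cx A) [DRing.HasLTensorCx A E] (L : Dual.D A) (K : DRing.Cx A)
    (φ : Q.obj K ≅ L) (h : (DRing.LTensorCx A E).obj L ≅ Dual.inD A A)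
    (P P' : DRing.Cx A) (u : P ⟶ K) (hu : QuasiIso u) (u' : P' ⟶ E)
    (hu' : QuasiIso u') (hP : IsKFlat P) :
    (∀ n, n ≠ 0 → IsZero ((P ⊗ P').homology n)) ∧ Nonempty ((P ⊗ P').homology 0 ≃ₗ[A] A) := by
  let ψ : Q.obj (P ⊗ P') ≅ Dual.inD A A := totIso E L K φ P P' u hu u' hu' hP ≪≫ h
  refine ⟨fun n hn => ?_, ⟨?_⟩⟩
  · exact (isZero_HD_inD n hn).of_iso ((homologyQIso (P ⊗ P') n).symm ≪≫
      (DerivedCategory.homologyFunctor _ n).mapIso ψ)
  · exact ((homologyQIso (P ⊗ P') 0).symm ≪≫ (DerivedCategory.homologyFunctor _ 0).mapIso ψ ≪≫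
      (DerivedCategory.singleFunctorCompHomologyFunctorIso (ModuleCat.{u} A) 0).app
        (ModuleCat.of A A)).toLinearEquiv

/-- isomorphism on homology induced by a quasi-isomorphism -/
noncomputable def qisHomologyIso {P K : DRing.Cx A} (u : P ⟶ K) (hu : QuasiIso u) (i : ℤ) :
    P.homology i ≅ K.homology i :=
  haveI := hu
  asIso (HomologicalComplex.homologyMap u i)

lemma isKFlat_of_res (P : DRing.Cx A) (m : ℤ) (hz : ∀ i, m ≤ i → IsZero (P.X i))
    (hff : ∀ i, Module.Finite A (P.X i) ∧ Module.Free A (P.X i)) : IsKFlat P :=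
  isKFlat_of_bounded_flat P (m - 1) (fun i hi => hz i (by omega)) (fun i => by
    have := (hff i).2
    infer_instance)

/-- an object with a single cohomology module isomorphic to `A` -/
lemma nonempty_iso_shift_of_single (L : Dual.D A) (a : ℤ)
    (hz : ∀ j, j ≠ a → IsZero ((DerivedCategory.homologyFunctor (ModuleCat.{u} A) j).obj L))
    (e : (DerivedCategory.homologyFunctor (ModuleCat.{u} A) a).obj L ≅ ModuleCat.of A A) :
    Nonempty (L ≅ (Dual.inD A A)⟦-a⟧) := by
  haveI : L.IsGE a := (DerivedCategory.isGE_iff L a).2 (fun i hi => hz i (by omega))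
  haveI : L.IsLE a := (DerivedCategory.isLE_iff L a).2 (fun i hi => hz i (by omega))
  obtain ⟨M, ⟨eL⟩, ⟨eM⟩⟩ := Groth.Agent.H9.DCF.nonempty_iso_single_shift L a
  exact ⟨eL ≪≫ (CategoryTheory.shiftFunctor (Dual.D A) (-a)).mapIso
    ((DerivedCategory.singleFunctor (ModuleCat.{u} A) 0).mapIso (eM ≪≫ e))⟩

/-- **S11182** -/
theorem main (L : Dual.D A) (E : DRing.Cx A) [DRing.HasLTensorCx A E]
    (hLfin : ∀ i : ℤ, Module.Finite A (Dual.HD A L i))
    (hLbdd : ∃ b : ℤ, ∀ i : ℤ, b < i → Subsingleton (Dual.HD A L i))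
    (hEfin : ∀ i : ℤ, Module.Finite A (Dual.HD A (DRing.toD E) i))
    (hEbdd : ∃ b : ℤ, ∀ i : ℤ, b < i → Subsingleton (Dual.HD A (DRing.toD E) i))
    (h : Nonempty ((DRing.LTensorCx A E).obj L ≅ Dual.inD A A)) :
    ∃ n : ℤ, Nonempty (L ≅ (Dual.inD A A)⟦n⟧) ∧
      Nonempty (DRing.toD E ≅ (Dual.inD A A)⟦(-n)⟧) := by
  obtain ⟨h⟩ := h
  let K := Q.objPreimage L
  let φ : Q.obj K ≅ L := Q.objObjPreimageIso L
  let cK : ∀ i, K.homology i ≅ (DerivedCategory.homologyFunctor (ModuleCat.{u} A) i).obj L :=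
    fun i => (homologyQIso K i).symm ≪≫ (DerivedCategory.homologyFunctor _ i).mapIso φ
  let cE : ∀ i, E.homology i ≅
      (DerivedCategory.homologyFunctor (ModuleCat.{u} A) i).obj (Q.obj E) :=
    fun i => (homologyQIso E i).symm
  have hKfin : ∀ i, Module.Finite A (K.homology i) := fun i =>
    haveI := hLfin i
    Module.Finite.equiv (cK i).toLinearEquiv.symm
  have hEfin' : ∀ i, Module.Finite A (E.homology i) := fun i =>
    haveI := hEfin i
    Module.Finite.equiv (cE i).toLinearEquiv.symm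
  obtain ⟨bK, hbK⟩ : ∃ b : ℤ, ∀ i : ℤ, b < i → IsZero (K.homology i) := by
    obtain ⟨b, hb⟩ := hLbdd
    exact ⟨b, fun i hi => by
      haveI := hb i hi
      exact (ModuleCat.isZero_of_subsingleton _).of_iso (cK i)⟩
  obtain ⟨bE, hbE⟩ : ∃ b : ℤ, ∀ i : ℤ, b < i → IsZero (E.homology i) := by
    obtain ⟨b, hb⟩ := hEbdd
    exact ⟨b, fun i hi => by
      haveI := hb i hi
      exact (ModuleCat.isZero_of_subsingleton _).of_iso (cE i)⟩
  -- crude resolutions, to see that `K` and `E` are not acyclic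
  obtain ⟨P₀, u₀, hu₀, hz₀, hff₀⟩ := exists_resolution K hKfin (bK + 1)
    (fun i hi => hbK i (by omega))
  obtain ⟨P₀', u₀', hu₀', hz₀', hff₀'⟩ := exists_resolution E hEfin' (bE + 1)
    (fun i hi => hbE i (by omega))
  have hKF₀ : IsKFlat P₀ := isKFlat_of_res P₀ _ hz₀ hff₀
  have hKF₀' : IsKFlat P₀' := isKFlat_of_res P₀' _ hz₀' hff₀'
  obtain ⟨-, ⟨e₀⟩⟩ := tot_homology E L K φ h P₀ P₀' u₀ hu₀ u₀' hu₀' hKF₀
  have hKne : ∃ i : ℤ, ¬ IsZero (K.homology i) := by
    by_contra hcon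
    push Not at hcon
    have hac : ∀ i, IsZero (P₀.homology i) := fun i =>
      (hcon i).of_iso (qisHomologyIso u₀ hu₀ i)
    haveI := ModuleCat.subsingleton_of_isZero (hKF₀' P₀ hac 0)
    exact not_subsingleton A e₀.symm.toEquiv.subsingleton
  have hEne : ∃ i : ℤ, ¬ IsZero (E.homology i) := by
    by_contra hcon
    push Not at hcon
    have hac : ∀ i, IsZero (P₀'.homology i) := fun i =>
      (hcon i).of_iso (qisHomologyIso u₀' hu₀' i)
    haveI := ModuleCat.subsingleton_of_isZero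
      (isZero_homology_tensor_left_of_isKFlat hKF₀ P₀' hac 0)
    exact not_subsingleton A e₀.symm.toEquiv.subsingleton
  obtain ⟨a, ha, hamax⟩ := exists_top K ⟨bK, hbK⟩ hKne
  obtain ⟨b, hb, hbmax⟩ := exists_top E ⟨bE, hbE⟩ hEne
  -- refined resolutions
  obtain ⟨P, u, hu, hz, hff⟩ := exists_resolution K hKfin (a + 1)
    (fun i hi => hamax i (by omega))
  obtain ⟨P', u', hu', hz', hff'⟩ := exists_resolution E hEfin' (b + 1)
    (fun i hi => hbmax i (by omega))
  have hKF : IsKFlat P := isKFlat_of_res P _ hz hff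
  obtain ⟨hT, ⟨e0⟩⟩ := tot_homology E L K φ h P P' u hu u' hu' hKF
  have hPfin : Module.Finite A (P.homology a) :=
    haveI := hKfin a
    Module.Finite.equiv (qisHomologyIso u hu a).toLinearEquiv.symm
  have hP'fin : Module.Finite A (P'.homology b) :=
    haveI := hEfin' b
    Module.Finite.equiv (qisHomologyIso u' hu' b).toLinearEquiv.symm
  obtain ⟨hab, ⟨eM⟩, ⟨eN⟩, hPz, hP'z⟩ := chain_main P P' a b (fun i hi => hz i (by omega))
    (fun i hi => hz' i (by omega)) hPfin hP'fin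
    (fun hzero => ha (hzero.of_iso (qisHomologyIso u hu a).symm))
    (fun hzero => hb (hzero.of_iso (qisHomologyIso u' hu' b).symm)) hT e0
  obtain ⟨eL⟩ := nonempty_iso_shift_of_single L a
    (fun j hj => (hPz j hj).of_iso ((cK j).symm ≪≫ (qisHomologyIso u hu j).symm))
    ((cK a).symm ≪≫ (qisHomologyIso u hu a).symm ≪≫ eM.toModuleIso)
  obtain ⟨eE⟩ := nonempty_iso_shift_of_single (Q.obj E) b
    (fun j hj => (hP'z j hj).of_iso ((cE j).symm ≪≫ (qisHomologyIso u' hu' j).symm))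
    ((cE b).symm ≪≫ (qisHomologyIso u' hu' b).symm ≪≫ eN.toModuleIso)
  refine ⟨-a, ⟨eL⟩, ?_⟩
  have hneg : -(-a) = -b := by omega
  rw [hneg]
  exact ⟨eE⟩

end Main

end Groth.Agent.H9.Inv
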